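import Groth.Agent.Lib.LimH13.SubAlgLimit
import Mathlib.AlgebraicGeometry.AffineTransitionLimit
import Mathlib.AlgebraicGeometry.Morphisms.Immersion
import Mathlib.AlgebraicGeometry.Morphisms.ClosedImmersion
import Mathlib.AlgebraicGeometry.Morphisms.FiniteType
import Mathlib.AlgebraicGeometry.Cover.Open

/-!
# Morphisms from the spectrum of a directed union of subalgebras to a scheme of finite type
-/

universe u

open CategoryTheory Limits AlgebraicGeometry Opposite TopologicalSpace

set_option backward.isDefEq.respectTransparency false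
set_option backward.isDefEq.respectTransparency.types false

noncomputable section

namespace Groth.Agent.SubAlgHom12

variable {ι : Type u} {A C : Type u} [CommRing A] [CommRing C] [Algebra A C]

/-- The index set, ordered by inclusion. -/
def Idx (_S : ι → Subalgebra A C) := ι

variable {S : ι → Subalgebra A C}

instance : Preorder (Idx S) := Preorder.lift (fun i : Idx S => S i)

abbrev R (i : Idx S) : Subalgebra A C := S i

/-- Inclusion. -/
def incl {i j : Idx S} (h : i ≤ j) : R i →+* R j := (Subalgebra.inclusion h).toRingHom

/-- Embedding. -/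
def val (i : Idx S) : R i →+* C := (R i).val.toRingHom

theorem val_injective (i : Idx S) : Function.Injective (val i) := Subtype.val_injective

/-- The structure map. -/
def str (i : Idx S) : A →+* R i := algebraMap A (R i)

abbrev Y (i : Idx S) : Scheme.{u} := Spec (CommRingCat.of (R i))

abbrev p (i : Idx S) : Spec (CommRingCat.of C) ⟶ Y i := Spec.map (CommRingCat.ofHom (val i))

abbrev q {i j : Idx S} (h : i ≤ j) : Y j ⟶ Y i := Spec.map (CommRingCat.ofHom (incl h))

variable (S) in
def F : Idx S ⥤ CommRingCat.{u} where
  obj i := CommRingCat.of (R i)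
  map {i j} a := CommRingCat.ofHom (incl a.le)
  map_id _ := rfl
  map_comp _ _ := rfl

variable (S) in
def cocone : Cocone (F S) where
  pt := CommRingCat.of C
  ι := { app := fun i => CommRingCat.ofHom (val i), naturality := fun _ _ _ => rfl }

section directed

variable (hdir : Directed (· ≤ ·) S) (hcov : ∀ c : C, ∃ i, c ∈ S i)

include hcov in
theorem nonempty_idx : Nonempty (Idx S) := ⟨(hcov 0).choose⟩

include hdir in
theorem isDirected_idx : IsDirected (Idx S) (· ≤ ·) :=
  ⟨fun i j => (hdir i j).imp fun _ h => ⟨h.1, h.2⟩⟩

include hdir hcov in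
/-- A qc open of a stage which is contained in another one in the limit is so at a later stage. -/
theorem exists_preimage_le (i : Idx S) (U V : (Y i).Opens) (hU : IsCompact (U : Set (Y i)))
    (H : p i ⁻¹ᵁ U ≤ p i ⁻¹ᵁ V) :
    ∃ (j : Idx S) (h : i ≤ j), q h ⁻¹ᵁ U ≤ q h ⁻¹ᵁ V := by
  haveI := nonempty_idx hcov
  haveI := isDirected_idx hdir
  haveI : IsFiltered (Idx S) := isFiltered_of_directed_le_nonempty _
  let D : (Idx S)ᵒᵖ ⥤ Scheme.{u} := (F S).op ⋙ Scheme.Spec
  have hcol : IsColimit (cocone S) := LimH13.SubAlg.isColimitOfInjective (cocone S)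
    (fun i => val_injective i)
    (fun x => ⟨(hcov x).choose, ⟨x, (hcov x).choose_spec⟩, rfl⟩)
  have hc : IsLimit (Scheme.Spec.mapCone (cocone S).op) := isLimitOfPreserves _ hcol.op
  haveI : ∀ {a b : (Idx S)ᵒᵖ} (f : a ⟶ b), IsAffineHom (D.map f) := by
    intro a b f
    exact inferInstanceAs (IsAffineHom (Spec.map _))
  obtain ⟨j, f, hj⟩ :=
    exists_map_preimage_le_map_preimage D _ hc (i := op i) (U := U) (V := V) hU H
  exact ⟨j.unop, f.unop.le, hj⟩

variable {X : Scheme.{u}} (f : X ⟶ Spec (CommRingCat.of A)) [LocallyOfFiniteType f]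

/-- The localised ring at a stage. -/
abbrev L (j : Idx S) (c : R j) : Type u := Localization.Away c

/-- The structure map of the localised ring. -/
abbrev loc (j : Idx S) (c : R j) : R j →+* L j c := algebraMap _ _

/-- Transition of localised rings. -/
abbrev lincl {i j : Idx S} (h : i ≤ j) (c : R i) : L i c →+* L j (incl h c) :=
  Localization.awayMap (incl h) c

/-- Embedding of localised rings. -/
abbrev lval (i : Idx S) (c : R i) : L i c →+* Localization.Away (val i c) :=
  Localization.awayMap (val i) c

theorem awayMap_comp_algebraMap {R P : Type u} [CommRing R] [CommRing P] (φ : R →+* P) (r : R) :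
    (Localization.awayMap φ r).comp (algebraMap R (Localization.Away r)) =
      (algebraMap P (Localization.Away (φ r))).comp φ :=
  IsLocalization.map_comp _

theorem awayMap_injective {R P : Type u} [CommRing R] [CommRing P] (φ : R →+* P)
    (hφ : Function.Injective φ) (r : R) : Function.Injective (Localization.awayMap φ r) := by
  haveI : IsLocalization ((Submonoid.powers r).map φ) (Localization.Away (φ r)) := by
    rw [Submonoid.map_powers]; infer_instance
  exact IsLocalization.map_injective_of_injective (Submonoid.powers r) _ _ hφ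

theorem lval_injective (i : Idx S) (c : R i) : Function.Injective (lval i c) :=
  awayMap_injective _ (val_injective i) c

include hdir hcov in
/-- Lifting a homomorphism from a finite type algebra into a localisation to a stage. -/
theorem exists_lift {B : Type u} [CommRing B] (σ : A →+* B) (hσ : σ.FiniteType)
    (i : Idx S) (c : R i) (ψ : B →+* Localization.Away (val i c))
    (hψ : ψ.comp σ = ((lval i c).comp (loc i c)).comp (str i)) :
    ∃ (j : Idx S) (h : i ≤ j) (φ : B →+* L j (incl h c)),
      (lval j (incl h c)).comp φ = ψ ∧ φ.comp σ = (loc j (incl h c)).comp (str j) := by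
  classical
  letI := σ.toAlgebra
  haveI : Algebra.FiniteType A B := hσ
  obtain ⟨s, hs⟩ := Algebra.FiniteType.out (R := A) (A := B)
  have h1 : ∀ b : B, ∃ (a : C) (n : ℕ),
      ψ b * algebraMap C _ ((val i c) ^ n) = algebraMap C _ a := by
    intro b
    obtain ⟨n, a, h⟩ := IsLocalization.Away.surj (val i c) (ψ b)
    exact ⟨a, n, by rw [map_pow]; exact h⟩
  choose a n ha using h1
  haveI := nonempty_idx hcov
  haveI := isDirected_idx hdir
  choose k hk using hcov
  obtain ⟨j, hj⟩ := Finset.exists_le (α := Idx S) (insert i (s.image fun b => (k (a b) : Idx S)))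
  have hij : i ≤ j := hj i (Finset.mem_insert_self _ _)
  have hsj : ∀ b ∈ s, a b ∈ R j := fun b hb =>
    (show R (k (a b) : Idx S) ≤ R j from
      hj _ (Finset.mem_insert_of_mem (Finset.mem_image_of_mem _ hb))) (hk (a b))
  set c' := incl hij c
  have hval : ∀ x : R j, lval j c' (loc j c' x) = algebraMap C _ (val j x) := fun x =>
    DFunLike.congr_fun (awayMap_comp_algebraMap (val j) c') x
  let ψ' : B →+* Localization.Away (val j c') := ψ
  have hrange : ∀ b : B, ψ' b ∈ (lval j c').range := by
    intro b
    have hb : b ∈ Algebra.adjoin A (s : Set B) := by rw [hs]; trivial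
    induction hb using Algebra.adjoin_induction with
    | mem x hx =>
      obtain ⟨u, hu⟩ := (IsLocalization.Away.algebraMap_isUnit (S := L j c') c').pow (n x)
      refine ⟨loc j c' ⟨a x, hsj x hx⟩ * (↑u⁻¹ : L j c'), ?_⟩
      have hu' : lval j c' (u : L j c') =
          algebraMap C (Localization.Away (val j c')) (val i c ^ n x) :=
        calc lval j c' (u : L j c') = lval j c' (loc j c' (c' ^ n x)) :=
              congrArg _ (hu.trans (map_pow _ _ _).symm)
          _ = algebraMap C _ (val j (c' ^ n x)) := hval _
          _ = _ := congrArg _ (map_pow (val j) c' (n x))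
      calc lval j c' (loc j c' ⟨a x, hsj x hx⟩ * (↑u⁻¹ : L j c'))
          = lval j c' (loc j c' ⟨a x, hsj x hx⟩) * lval j c' (↑u⁻¹ : L j c') := map_mul _ _ _
        _ = algebraMap C _ (a x) * lval j c' (↑u⁻¹ : L j c') := by rw [hval]; rfl
        _ = (ψ' x * lval j c' (u : L j c')) * lval j c' (↑u⁻¹ : L j c') :=
            congrArg (· * _) ((ha x).symm.trans (congrArg (ψ' x * ·) hu'.symm))
        _ = ψ' x := by rw [mul_assoc, ← map_mul, Units.mul_inv, map_one, mul_one]
    | algebraMap r =>
      refine ⟨loc j c' (str j r), ?_⟩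
      rw [hval]
      refine Eq.trans ?_ (DFunLike.congr_fun hψ r).symm
      change _ = lval i c (loc i c (str i r))
      rw [show lval i c (loc i c (str i r)) = algebraMap C _ (val i (str i r)) from
        DFunLike.congr_fun (awayMap_comp_algebraMap (val i) c) _]
      rfl
    | add x y _ _ hx hy => rw [map_add]; exact add_mem hx hy
    | mul x y _ _ hx hy => rw [map_mul]; exact mul_mem hx hy
  let e : L j c' ≃+* (lval j c').range :=
    RingEquiv.ofBijective (lval j c').rangeRestrict
      ⟨fun x y h => lval_injective j c' (congrArg Subtype.val h), (lval j c').rangeRestrict_surjective⟩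
  let φ : B →+* L j c' := e.symm.toRingHom.comp (ψ.codRestrict (lval j c').range hrange)
  have h2 : (lval j c').comp φ = ψ := by
    ext b
    exact congrArg Subtype.val (e.apply_symm_apply ⟨ψ b, hrange b⟩)
  refine ⟨j, hij, φ, h2, ?_⟩
  ext r
  refine lval_injective j c' ?_
  change (lval j c').comp φ (σ r) = _
  rw [h2]
  change ψ.comp σ r = lval j c' (loc j c' (str j r))
  rw [hψ, hval]
  change lval i c (loc i c (str i r)) = _
  rw [show lval i c (loc i c (str i r)) = algebraMap C _ (val i (str i r)) from
    DFunLike.congr_fun (awayMap_comp_algebraMap (val i) c) _]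
  rfl

end directed

end Groth.Agent.SubAlgHom12
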