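import Groth.Agent.Lib.SubAlgHom12.Basic

/-!
# Morphisms from the spectrum of a directed union of subalgebras to a scheme of finite type: glueing
-/

universe u

open CategoryTheory Limits AlgebraicGeometry Opposite TopologicalSpace

set_option backward.isDefEq.respectTransparency false
set_option backward.isDefEq.respectTransparency.types false

noncomputable section

namespace Groth.Agent.SubAlgHom12

variable {ι : Type u} {A C : Type u} [CommRing A] [CommRing C] [Algebra A C]
  {S : ι → Subalgebra A C}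

/-- The localised scheme at a stage. -/
abbrev W (j : Idx S) (c : R j) : Scheme.{u} := Spec (CommRingCat.of (L j c))

/-- The open immersion into the stage. -/
abbrev o (j : Idx S) (c : R j) : W j c ⟶ Y j := Spec.map (CommRingCat.ofHom (loc j c))

/-- Transition of localised schemes. -/
abbrev lq {i j : Idx S} (h : i ≤ j) (c : R i) : W j (incl h c) ⟶ W i c :=
  Spec.map (CommRingCat.ofHom (lincl h c))

/-- The localised limit. -/
abbrev WC (c : C) : Scheme.{u} := Spec (CommRingCat.of (Localization.Away c))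

/-- The open immersion into the limit. -/
abbrev oC (c : C) : WC c ⟶ Spec (CommRingCat.of C) :=
  Spec.map (CommRingCat.ofHom (algebraMap C (Localization.Away c)))

/-- Projection of localised schemes. -/
abbrev pc (j : Idx S) (c : R j) : WC (val j c) ⟶ W j c := Spec.map (CommRingCat.ofHom (lval j c))

@[reassoc]
theorem lq_o {i j : Idx S} (h : i ≤ j) (c : R i) : lq h c ≫ o i c = o j (incl h c) ≫ q h := by
  rw [← Spec.map_comp, ← Spec.map_comp]
  exact congrArg Spec.map (CommRingCat.hom_ext (awayMap_comp_algebraMap (incl h) c))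

@[reassoc]
theorem pc_o (j : Idx S) (c : R j) : pc j c ≫ o j c = oC (val j c) ≫ p j := by
  rw [← Spec.map_comp, ← Spec.map_comp]
  exact congrArg Spec.map (CommRingCat.hom_ext (awayMap_comp_algebraMap (val j) c))

theorem p_q {i j : Idx S} (h : i ≤ j) : p j ≫ q h = p i := (Spec.map_comp _ _).symm

theorem pc_lq {i j : Idx S} (h : i ≤ j) (c : R i) : pc j (incl h c) ≫ lq h c = pc i c := by
  rw [← cancel_mono (o i c), Category.assoc, lq_o, pc_o, pc_o_assoc, p_q]
  rfl

theorem range_o (j : Idx S) (c : R j) :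
    Set.range (o j c) = (PrimeSpectrum.basicOpen c : Set (PrimeSpectrum (R j))) :=
  PrimeSpectrum.localization_away_comap_range _ c

theorem range_oC (c : C) :
    Set.range (oC c) = (PrimeSpectrum.basicOpen c : Set (PrimeSpectrum C)) :=
  PrimeSpectrum.localization_away_comap_range _ c

theorem range_o_mul_left (j : Idx S) (a b : R j) : Set.range (o j (a * b)) ⊆ Set.range (o j a) := by
  rw [range_o, range_o, PrimeSpectrum.basicOpen_mul]; exact inf_le_left

theorem range_o_mul_right (j : Idx S) (a b : R j) : Set.range (o j (a * b)) ⊆ Set.range (o j b) := by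
  rw [range_o, range_o, PrimeSpectrum.basicOpen_mul]; exact inf_le_right

theorem range_oC_mul_left (j : Idx S) (a b : R j) :
    Set.range (oC (val j (a * b))) ⊆ Set.range (oC (val j a)) := by
  rw [range_oC, range_oC, map_mul, PrimeSpectrum.basicOpen_mul]; exact inf_le_left

theorem range_oC_mul_right (j : Idx S) (a b : R j) :
    Set.range (oC (val j (a * b))) ⊆ Set.range (oC (val j b)) := by
  rw [range_oC, range_oC, map_mul, PrimeSpectrum.basicOpen_mul]; exact inf_le_right

theorem lval_denseRange (j : Idx S) (c : R j) : DenseRange (pc j c) := by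
  refine (PrimeSpectrum.denseRange_comap_iff_ker_le_nilRadical _).2 ?_
  rw [show RingHom.ker (CommRingCat.ofHom (lval j c)).hom = ⊥ from
    (RingHom.injective_iff_ker_eq_bot _).1 (lval_injective j c)]
  exact bot_le

theorem span_glue {R : Type u} [CommRing R] {t : Type u} (s : t → R)
    (hs : Ideal.span (Set.range s) = ⊤) {X : Scheme.{u}}
    (b : ∀ x, WC (s x) ⟶ X)
    (h : ∀ x y, pullback.fst (oC (s x)) (oC (s y)) ≫ b x = pullback.snd (oC (s x)) (oC (s y)) ≫ b y) :
    ∃ g : Spec (CommRingCat.of R) ⟶ X, ∀ x, oC (s x) ≫ g = b x := by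
  let 𝒰 : (Spec (CommRingCat.of R)).OpenCover :=
    (Scheme.affineOpenCoverOfSpanRangeEqTop (R := CommRingCat.of R) s hs).openCover
  have h' : ∀ x y : 𝒰.I₀, pullback.fst (𝒰.f x) (𝒰.f y) ≫ (b x : 𝒰.X x ⟶ X) =
      pullback.snd (𝒰.f x) (𝒰.f y) ≫ (b y : 𝒰.X y ⟶ X) := fun x y => h x y
  exact ⟨𝒰.glueMorphisms (fun x => b x) h', fun x => 𝒰.ι_glueMorphisms (fun x => b x) h' x⟩

theorem span_hom_ext {R : Type u} [CommRing R] {t : Type u} (s : t → R)
    (hs : Ideal.span (Set.range s) = ⊤) {X : Scheme.{u}}
    (g g' : Spec (CommRingCat.of R) ⟶ X) (h : ∀ x, oC (s x) ≫ g = oC (s x) ≫ g') : g = g' :=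
  (Scheme.affineOpenCoverOfSpanRangeEqTop (R := CommRingCat.of R) s hs).openCover.hom_ext _ _ h

section directed

variable (hdir : Directed (· ≤ ·) S) (hcov : ∀ c : C, ∃ i, c ∈ S i)
  {X : Scheme.{u}} (f : X ⟶ Spec (CommRingCat.of A)) [IsReduced (Spec (CommRingCat.of C))]

instance isReduced_R (j : Idx S) : _root_.IsReduced (R j) := by
  haveI : _root_.IsReduced C := (affine_isReduced_iff (CommRingCat.of C)).1 inferInstance
  exact isReduced_of_injective (val j) (val_injective j)

include hdir hcov in
/-- Two morphisms to a scheme which agree in the limit agree at a later stage. -/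
theorem exists_eq (i : Idx S) (d : R i) (a b : W i d ⟶ X) (hab : a ≫ f = b ≫ f)
    (heq : pc i d ≫ a = pc i d ≫ b) :
    ∃ (j : Idx S) (h : i ≤ j), lq h d ≫ a = lq h d ≫ b := by
  let ab : W i d ⟶ pullback f f := pullback.lift a b hab
  let e := pullback.snd (pullback.diagonal f) ab
  haveI : IsImmersion e := inferInstance
  have hs : (pc i d ≫ a) ≫ pullback.diagonal f = pc i d ≫ ab := by
    apply pullback.hom_ext <;> simp [ab, heq]
  let s : WC (val i d) ⟶ pullback (pullback.diagonal f) ab :=
    pullback.lift (pc i d ≫ a) (pc i d) hs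
  have hse : s ≫ e = pc i d := pullback.lift_snd _ _ _
  have hcomp : IsCompact ((o i d).opensRange : Set (Y i)) := isCompact_range (o i d).continuous
  obtain ⟨j, h, hj⟩ := exists_preimage_le hdir hcov i (o i d).opensRange
    (o i d ''ᵁ e.coborderRange) hcomp (by
      intro y hy
      have hy' : y ∈ Set.range (oC (val i d)) := by
        rw [range_oC]
        have : p i y ∈ Set.range (o i d) := hy
        rw [range_o] at this
        exact this
      obtain ⟨z, rfl⟩ := hy'
      change p i (oC (val i d) z) ∈ o i d ''ᵁ e.coborderRange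
      rw [← Scheme.Hom.comp_apply, ← pc_o, ← hse]
      refine ⟨(s ≫ e) z, ?_, rfl⟩
      rw [Scheme.Hom.comp_apply]
      exact subset_coborder ⟨s z, rfl⟩)
  refine ⟨j, h, ?_⟩
  let r := lq h d
  have hr : ∀ w, r w ∈ e.coborderRange := fun w => by
    have hmem : o j (incl h d) w ∈ q h ⁻¹ᵁ (o i d).opensRange := by
      refine ⟨r w, ?_⟩
      rw [← Scheme.Hom.comp_apply, ← Scheme.Hom.comp_apply, lq_o]
    obtain ⟨v, hv, hv'⟩ := hj hmem
    rw [← Scheme.Hom.comp_apply, ← lq_o, Scheme.Hom.comp_apply] at hv'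
    exact (o i d).isOpenEmbedding.injective hv' ▸ hv
  let e' := pullback.snd e r
  have hrange : Set.range e' = r ⁻¹' Set.range e := Scheme.Pullback.range_snd _ _
  have hclosed : IsClosed (Set.range e') := by
    rw [hrange, ← closure_inter_coborder (s := Set.range e), Set.preimage_inter]
    rw [show r ⁻¹' coborder (Set.range e) = Set.univ from Set.eq_univ_of_forall hr, Set.inter_univ]
    exact isClosed_closure.preimage r.continuous
  have hsub : Set.range (pc j (incl h d)) ⊆ Set.range e' := by
    rintro _ ⟨z, rfl⟩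
    rw [hrange, Set.mem_preimage, ← Scheme.Hom.comp_apply, pc_lq]
    exact ⟨s z, by rw [← Scheme.Hom.comp_apply, hse]; rfl⟩
  haveI : Surjective e' := ⟨Set.range_eq_univ.1 (hclosed.closure_eq ▸
    ((lval_denseRange j (incl h d)).mono hsub).closure_eq)⟩
  haveI : IsImmersion e' := inferInstance
  haveI : IsClosedImmersion e' := IsClosedImmersion.of_isPreimmersion _ hclosed
  haveI : IsReduced (W j (incl h d)) := inferInstance
  haveI := isIso_of_isClosedImmersion_of_surjective e'
  have hfac : (inv e' ≫ pullback.fst e r) ≫ e = r := by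
    rw [Category.assoc, pullback.condition, IsIso.inv_hom_id_assoc]
  have h1 : pullback.fst (pullback.diagonal f) ab = e ≫ a := by
    have := congrArg (· ≫ pullback.fst f f) (pullback.condition (f := pullback.diagonal f) (g := ab))
    simpa [ab] using! this
  have h2 : pullback.fst (pullback.diagonal f) ab = e ≫ b := by
    have := congrArg (· ≫ pullback.snd f f) (pullback.condition (f := pullback.diagonal f) (g := ab))
    simpa [ab] using! this
  change r ≫ a = r ≫ b
  rw [← hfac, Category.assoc _ e a, Category.assoc _ e b, ← h1, ← h2]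

variable [LocallyOfFiniteType f] (g : Spec (CommRingCat.of C) ⟶ X)
  (hg : g ≫ f = Spec.map (CommRingCat.ofHom (algebraMap A C)))

include hdir hcov hg in
/-- The factorisation on a basic open landing in an affine chart. -/
theorem exists_piece (i : Idx S) (c : R i) (m : X.affineOpenCover.I₀)
    (hm : Set.range (oC (val i c) ≫ g) ⊆ Set.range (X.affineOpenCover.f m)) :
    ∃ (j : Idx S) (h : i ≤ j) (a : W j (incl h c) ⟶ X),
      pc j (incl h c) ≫ a = oC (val j (incl h c)) ≫ g ∧
        a ≫ f = o j (incl h c) ≫ Spec.map (CommRingCat.ofHom (str j)) := by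
  let e := X.affineOpenCover.f m
  let σ := Spec.preimage (e ≫ f)
  let ψ := Spec.preimage (IsOpenImmersion.lift e (oC (val i c) ≫ g) hm)
  have hσ : σ.hom.FiniteType := (HasRingHomProperty.Spec_iff (P := @LocallyOfFiniteType)).1 (by
    rw [Spec.map_preimage]; infer_instance)
  have hψ : ψ.hom.comp σ.hom = ((lval i c).comp (loc i c)).comp (str i) := by
    have : σ ≫ ψ = CommRingCat.ofHom (((lval i c).comp (loc i c)).comp (str i)) := by
      apply Spec.map_injective
      rw [Spec.map_comp, Spec.map_preimage, Spec.map_preimage, IsOpenImmersion.lift_fac_assoc,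
        Category.assoc, hg, ← Spec.map_comp]
      refine congrArg Spec.map (CommRingCat.hom_ext ?_)
      change _ = ((Localization.awayMap (val i) c).comp _).comp _
      rw [awayMap_comp_algebraMap]
      rfl
    exact congrArg CommRingCat.Hom.hom this
  obtain ⟨j, h, φ, h1, h2⟩ := exists_lift hdir hcov σ.hom hσ i c ψ.hom hψ
  refine ⟨j, h, Spec.map (CommRingCat.ofHom φ) ≫ e, ?_, ?_⟩
  · rw [← Category.assoc, ← Spec.map_comp]
    have : CommRingCat.ofHom φ ≫ CommRingCat.ofHom (lval j (incl h c)) = ψ :=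
      CommRingCat.hom_ext h1
    rw [this, Spec.map_preimage, IsOpenImmersion.lift_fac]
    rfl
  · rw [Category.assoc, ← Spec.map_preimage (e ≫ f), ← Spec.map_comp, ← Spec.map_comp]
    exact congrArg Spec.map (CommRingCat.hom_ext h2)

include hdir hcov hg in
/-- The pieces at a common stage. -/
theorem exists_pieces : ∃ (t : Type u) (_ : Fintype t) (i : Idx S) (c : t → R i)
    (b : ∀ x, W i (c x) ⟶ X), Ideal.span (Set.range c) = ⊤ ∧
    (∀ x, pc i (c x) ≫ b x = oC (val i (c x)) ≫ g) ∧
    ∀ x, b x ≫ f = o i (c x) ≫ Spec.map (CommRingCat.ofHom (str i)) := by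
  classical
  haveI := nonempty_idx hcov
  haveI := isDirected_idx hdir
  have key : ∀ y : PrimeSpectrum C, ∃ (c : C) (m : X.affineOpenCover.I₀),
      y ∈ PrimeSpectrum.basicOpen c ∧
        Set.range (oC c ≫ g) ⊆ Set.range (X.affineOpenCover.f m) := by
    intro y
    let m := X.affineOpenCover.idx (g y)
    have hy : y ∈ g ⁻¹ᵁ (X.affineOpenCover.f m).opensRange := X.affineOpenCover.covers (g y)
    obtain ⟨_, ⟨c, rfl⟩, hc, hle⟩ :=
      PrimeSpectrum.isTopologicalBasis_basic_opens.exists_subset_of_mem_open hy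
        (g ⁻¹ᵁ (X.affineOpenCover.f m).opensRange).isOpen
    refine ⟨c, m, hc, ?_⟩
    rintro _ ⟨z, rfl⟩
    rw [Scheme.Hom.comp_apply]
    exact hle ((range_oC c).le ⟨z, rfl⟩)
  choose c m hyc hm using key
  obtain ⟨t, ht⟩ := isCompact_univ.elim_finite_subcover
    (fun y => (PrimeSpectrum.basicOpen (c y) : Set (PrimeSpectrum C)))
    (fun y => (PrimeSpectrum.basicOpen (c y)).isOpen)
    (fun y _ => Set.mem_iUnion.2 ⟨y, hyc y⟩)
  have hspanC : Ideal.span (Set.range fun k : t => c k) = ⊤ := by
    rw [← PrimeSpectrum.iSup_basicOpen_eq_top_iff, eq_top_iff]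
    intro y _
    obtain ⟨k, hk, hyk⟩ := Set.mem_iUnion₂.1 (ht (Set.mem_univ y))
    exact Opens.mem_iSup.2 ⟨⟨k, hk⟩, hyk⟩
  obtain ⟨l, hl⟩ := (Submodule.mem_span_range_iff_exists_fun C).1
    (hspanC ▸ (Submodule.mem_top : (1 : C) ∈ (⊤ : Ideal C)))
  choose k hk using hcov
  replace hcov : ∀ c : C, ∃ i, c ∈ S i := fun x => ⟨k x, hk x⟩
  obtain ⟨i, hi⟩ := Finset.exists_le (α := Idx S)
    ((Finset.univ.image fun x : t => (k (c x) : Idx S)) ∪
      Finset.univ.image fun x : t => (k (l x) : Idx S))
  have hci : ∀ x : t, c x ∈ R i := fun x =>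
    (show R (k (c x) : Idx S) ≤ R i from hi _ (Finset.mem_union_left _
      (Finset.mem_image_of_mem _ (Finset.mem_univ x)))) (hk _)
  have hli : ∀ x : t, l x ∈ R i := fun x =>
    (show R (k (l x) : Idx S) ≤ R i from hi _ (Finset.mem_union_right _
      (Finset.mem_image_of_mem _ (Finset.mem_univ x)))) (hk _)
  let ci : t → R i := fun x => ⟨c x, hci x⟩
  choose j1 hj1 a ha1 ha2 using fun x : t =>
    exists_piece hdir hcov f g hg i (ci x) (m x) (hm x)
  obtain ⟨i', hi'⟩ := Finset.exists_le (α := Idx S) (insert i (Finset.univ.image j1))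
  have hii' : i ≤ i' := hi' i (Finset.mem_insert_self _ _)
  have hj1i' : ∀ x, j1 x ≤ i' := fun x =>
    hi' _ (Finset.mem_insert_of_mem (Finset.mem_image_of_mem _ (Finset.mem_univ x)))
  refine ⟨t, inferInstance, i', fun x => incl hii' (ci x),
    fun x => lq (hj1i' x) (incl (hj1 x) (ci x)) ≫ a x, ?_, fun x => ?_, fun x => ?_⟩
  · rw [Ideal.eq_top_iff_one]
    refine (Submodule.mem_span_range_iff_exists_fun (R i')).2
      ⟨fun x => incl hii' ⟨l x, hli x⟩, ?_⟩
    apply val_injective i'
    rw [map_sum, map_one, ← hl]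
    exact Finset.sum_congr rfl fun x _ => rfl
  · rw [← Category.assoc]
    exact (congrArg (· ≫ a x) (pc_lq (hj1i' x) (incl (hj1 x) (ci x)))).trans (ha1 x)
  · rw [Category.assoc, ha2 x, lq_o_assoc, ← Spec.map_comp (CommRingCat.ofHom (str (j1 x)))]
    rfl

include hdir hcov in
/-- Pieces at a stage agree on overlaps at a later stage. -/
theorem exists_agree (i : Idx S) (c c' : R i) (b : W i c ⟶ X) (b' : W i c' ⟶ X)
    (hb1 : pc i c ≫ b = oC (val i c) ≫ g) (hb1' : pc i c' ≫ b' = oC (val i c') ≫ g)
    (hb2 : b ≫ f = o i c ≫ Spec.map (CommRingCat.ofHom (str i)))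
    (hb2' : b' ≫ f = o i c' ≫ Spec.map (CommRingCat.ofHom (str i))) :
    ∃ (j : Idx S) (_ : i ≤ j), ∀ (k : Idx S) (h : i ≤ k), j ≤ k →
      pullback.fst (o k (incl h c)) (o k (incl h c')) ≫ lq h c ≫ b =
        pullback.snd (o k (incl h c)) (o k (incl h c')) ≫ lq h c' ≫ b' := by
  let uL : W i (c * c') ⟶ W i c :=
    IsOpenImmersion.lift (o i c) (o i (c * c')) (range_o_mul_left i _ _)
  let uR : W i (c * c') ⟶ W i c' :=
    IsOpenImmersion.lift (o i c') (o i (c * c')) (range_o_mul_right i _ _)
  let vL := IsOpenImmersion.lift (oC (val i c)) (oC (val i (c * c'))) (range_oC_mul_left i _ _)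
  let vR := IsOpenImmersion.lift (oC (val i c')) (oC (val i (c * c'))) (range_oC_mul_right i _ _)
  have hL : pc i (c * c') ≫ uL = vL ≫ pc i c := by
    rw [← cancel_mono (o i c), Category.assoc, IsOpenImmersion.lift_fac, Category.assoc,
      pc_o, pc_o, IsOpenImmersion.lift_fac_assoc]
  have hR : pc i (c * c') ≫ uR = vR ≫ pc i c' := by
    rw [← cancel_mono (o i c'), Category.assoc, IsOpenImmersion.lift_fac, Category.assoc,
      pc_o, pc_o, IsOpenImmersion.lift_fac_assoc]
  obtain ⟨j, hij, heq⟩ := exists_eq hdir hcov f i (c * c') (uL ≫ b) (uR ≫ b')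
    (by rw [Category.assoc, Category.assoc, hb2, hb2', IsOpenImmersion.lift_fac_assoc,
      IsOpenImmersion.lift_fac_assoc])
    (by rw [reassoc_of% hL, reassoc_of% hR, hb1, hb1', IsOpenImmersion.lift_fac_assoc,
      IsOpenImmersion.lift_fac_assoc])
  refine ⟨j, hij, fun k h hjk => ?_⟩
  have hr : Set.range (pullback.fst (o k (incl h c)) (o k (incl h c')) ≫ o k (incl h c)) ⊆
      Set.range (o k (incl h (c * c'))) := by
    rintro _ ⟨z, rfl⟩
    have h1 : (pullback.fst (o k (incl h c)) (o k (incl h c')) ≫ o k (incl h c)) z ∈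
        Set.range (o k (incl h c)) := ⟨_, (Scheme.Hom.comp_apply _ _ _).symm⟩
    have h2 : (pullback.fst (o k (incl h c)) (o k (incl h c')) ≫ o k (incl h c)) z ∈
        Set.range (o k (incl h c')) :=
      ⟨pullback.snd (o k (incl h c)) (o k (incl h c')) z, by
        rw [← Scheme.Hom.comp_apply, ← pullback.condition]⟩
    rw [range_o] at h1 h2 ⊢
    rw [map_mul, PrimeSpectrum.basicOpen_mul]
    exact ⟨h1, h2⟩
  have hw := IsOpenImmersion.lift_fac (o k (incl h (c * c'))) _ hr
  generalize IsOpenImmersion.lift (o k (incl h (c * c'))) _ hr = w at hw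
  have hwL : pullback.fst (o k (incl h c)) (o k (incl h c')) ≫ lq h c = w ≫ lq h (c * c') ≫ uL := by
    rw [← cancel_mono (o i c), Category.assoc, lq_o, Category.assoc, Category.assoc,
      IsOpenImmersion.lift_fac, lq_o, ← Category.assoc w, hw, Category.assoc]
  have hwR : pullback.snd (o k (incl h c)) (o k (incl h c')) ≫ lq h c' = w ≫ lq h (c * c') ≫ uR := by
    rw [← cancel_mono (o i c'), Category.assoc, lq_o, Category.assoc, Category.assoc,
      IsOpenImmersion.lift_fac, lq_o, ← Category.assoc w, hw, pullback.condition, Category.assoc]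
  have hfac : lq h (c * c') = lq hjk (incl hij (c * c')) ≫ lq hij (c * c') := by
    rw [← cancel_mono (o i (c * c')), Category.assoc, lq_o, lq_o, lq_o_assoc,
      ← Spec.map_comp (CommRingCat.ofHom (incl hij))]
    rfl
  rw [reassoc_of% hwL, reassoc_of% hwR, hfac, Category.assoc, Category.assoc, heq]

include hdir hcov hg in
/-- A morphism from the limit to a scheme of finite type factors through a stage. -/
theorem exists_hom : ∃ (j : Idx S) (g' : Y j ⟶ X),
    g' ≫ f = Spec.map (CommRingCat.ofHom (str j)) ∧ p j ≫ g' = g := by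
  classical
  haveI := nonempty_idx hcov
  haveI := isDirected_idx hdir
  obtain ⟨t, _, i, c, b, hspan, hb1, hb2⟩ := exists_pieces hdir hcov f g hg
  choose j2 _ hagree using fun x y : t =>
    exists_agree hdir hcov f g i (c x) (c y) (b x) (b y) (hb1 x) (hb1 y) (hb2 x) (hb2 y)
  obtain ⟨j, hj⟩ := Finset.exists_le (α := Idx S)
    (insert i (Finset.univ.image fun z : t × t => j2 z.1 z.2))
  have hij : i ≤ j := hj i (Finset.mem_insert_self _ _)
  have hj2j : ∀ x y, j2 x y ≤ j := fun x y =>
    hj _ (Finset.mem_insert_of_mem (Finset.mem_image_of_mem _ (Finset.mem_univ (x, y))))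
  have hspanj : Ideal.span (Set.range fun x => incl hij (c x)) = ⊤ := by
    rw [show (Set.range fun x => incl hij (c x)) = incl hij '' Set.range c from Set.range_comp _ _,
      ← Ideal.map_span, hspan, Ideal.map_top]
  have hspanC : Ideal.span (Set.range fun x => val j (incl hij (c x))) = ⊤ := by
    rw [show (Set.range fun x => val j (incl hij (c x))) =
      val j '' Set.range fun x => incl hij (c x) from Set.range_comp _ _,
      ← Ideal.map_span, hspanj, Ideal.map_top]
  obtain ⟨g', hg'⟩ := span_glue (fun x => incl hij (c x)) hspanj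
    (fun x => (lq hij (c x) ≫ b x : W j (incl hij (c x)) ⟶ X))
    (fun x y => hagree x y j hij (hj2j x y))
  refine ⟨j, g', ?_, ?_⟩
  · refine span_hom_ext (fun x => incl hij (c x)) hspanj _ _ fun x => ?_
    rw [reassoc_of% hg' x, hb2, lq_o_assoc, ← Spec.map_comp (CommRingCat.ofHom (str i))]
    rfl
  · refine span_hom_ext (fun x => val j (incl hij (c x))) hspanC _ _ fun x => ?_
    have h1 : oC (val j (incl hij (c x))) ≫ p j ≫ g' = pc j (incl hij (c x)) ≫ lq hij (c x) ≫ b x := by
      rw [← pc_o_assoc]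
      exact congrArg _ (hg' x)
    rw [h1, ← Category.assoc, pc_lq]
    exact hb1 x

end directed

end Groth.Agent.SubAlgHom12
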